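import Mathlib
import Cfsg.Agent.Lib.Extraspecial.Structure

/-!
Number of square roots of one in an extraspecial 2-group.
-/

set_option autoImplicit false

namespace Cfsg.Agent.Lib.ExtraStruct

open Subgroup
open scoped commutatorElement

universe u

/-- Splitting off a pair of involutions. -/
theorem card_sq_one_step {G : Type u} [Group G] [Finite G] (h : ExtraLike 2 G) {x y : G}
    (hxy : ⁅x, y⁆ ≠ 1) (hx : x ^ 2 = 1) (hy : y ^ 2 = 1) :
    Nat.card {g : G // g ^ 2 = 1} =
      2 * Nat.card {g : ↥(centralizer ({x, y} : Set G)) // g ^ 2 = 1} +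
        Nat.card ↥(centralizer ({x, y} : Set G)) := by
  classical
  haveI : Fact (Nat.Prime 2) := ⟨Nat.prime_two⟩
  set C := centralizer ({x, y} : Set G)
  haveI : Fintype C := Fintype.ofFinite C
  have hcomm : ∀ k : C, Commute x (k : G) ∧ Commute y (k : G) := fun k =>
    ⟨mem_centralizer_iff.mp k.2 x (Set.mem_insert _ _),
      mem_centralizer_iff.mp k.2 y (Set.mem_insert_of_mem _ rfl)⟩
  let e : Bool × Bool → G := fun b => (if b.1 then y else 1) * (if b.2 then x else 1)
  let f : (Bool × Bool) × C → G := fun t => e t.1 * (t.2 : G)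
  have hpow : ∀ (a : G), a ^ 2 = 1 → ∀ i : ℤ, ∃ b : Bool, a ^ i = if b then a else 1 := by
    intro a ha i
    rcases Int.even_or_odd i with ⟨l, hl⟩ | ⟨l, hl⟩
    · exact ⟨false, by rw [hl, ← two_mul, zpow_mul, zpow_two, ← sq, ha, one_zpow]; rfl⟩
    · exact ⟨true, by rw [hl, zpow_add_one, zpow_mul, zpow_two, ← sq, ha, one_zpow, one_mul]; rfl⟩
  have hf : Function.Bijective f := by
    refine (Nat.bijective_iff_surjective_and_card f).mpr ⟨fun g => ?_, ?_⟩
    · obtain ⟨i, j, k, hk, rfl⟩ := exists_decomp h hxy g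
      obtain ⟨b, hb⟩ := hpow y hy j
      obtain ⟨c, hc⟩ := hpow x hx i
      exact ⟨((b, c), ⟨k, hk⟩), by simp only [f, e, hb, hc]⟩
    · rw [Nat.card_prod, Nat.card_prod, card_eq_mul h hxy]
      simp [C]
  have hsq : ∀ (b : Bool × Bool) (k : C), f (b, k) ^ 2 = e b ^ 2 * (k : G) ^ 2 := by
    intro b k
    apply Commute.mul_pow
    have h1 := (hcomm k).1
    have h2 := (hcomm k).2
    simp only [e]
    split_ifs <;> simp [h1, h2, Commute.mul_left]
  have hc1 : (y * x) ^ 2 = ⁅x, y⁆ := by
    rw [Extraspecial.mul_pow_eq (h.comm_mem x y), hy, hx, one_mul, one_mul,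
      show Nat.choose 2 2 = 1 from rfl, pow_one]
  have hiff : ∀ k : C, ⁅x, y⁆ * (k : G) ^ 2 = 1 ↔ ¬ k ^ 2 = 1 := by
    intro k
    have hk : (k : G) ^ 2 = 1 ↔ k ^ 2 = 1 := by
      rw [← SubgroupClass.coe_pow]; exact OneMemClass.coe_eq_one
    rw [← hk]
    constructor
    · intro he hk1
      rw [hk1, mul_one] at he
      exact hxy he
    · intro hk1
      rw [eq_of_mem_center_two h (h.pow_mem (k : G)) hk1 (h.comm_mem x y) hxy, ← sq]
      have := orderOf_eq_of_mem_center h (h.comm_mem x y) hxy
      rw [← this]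
      exact pow_orderOf_eq_one _
  calc Nat.card {g : G // g ^ 2 = 1}
      = Nat.card {t : (Bool × Bool) × C // f t ^ 2 = 1} :=
        (Nat.card_congr ((Equiv.ofBijective f hf).subtypeEquiv fun t => Iff.rfl)).symm
    _ = Nat.card (Σ b : Bool × Bool, {k : C // f (b, k) ^ 2 = 1}) :=
        Nat.card_congr
          { toFun := fun t => ⟨t.1.1, t.1.2, t.2⟩
            invFun := fun t => ⟨(t.1, t.2.1), t.2.2⟩
            left_inv := fun t => rfl
            right_inv := fun t => rfl }
    _ = ∑ b : Bool × Bool, Nat.card {k : C // f (b, k) ^ 2 = 1} := Nat.card_sigma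
    _ = 2 * Nat.card {g : C // g ^ 2 = 1} + Nat.card C := by
      have hone : ∀ b : Bool × Bool, e b ^ 2 = 1 →
          Nat.card {k : C // f (b, k) ^ 2 = 1} = Nat.card {g : C // g ^ 2 = 1} := by
        intro b hb
        refine Nat.card_congr (Equiv.subtypeEquivRight fun k => ?_)
        rw [hsq, hb, one_mul, ← SubgroupClass.coe_pow]
        exact OneMemClass.coe_eq_one
      rw [Fintype.sum_prod_type, Fintype.sum_bool, Fintype.sum_bool, Fintype.sum_bool]
      rw [hone (true, false) (by simp [e, hy]), hone (false, true) (by simp [e, hx]),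
        hone (false, false) (by simp [e])]
      have htt : Nat.card {k : C // f ((true, true), k) ^ 2 = 1} =
          Nat.card C - Nat.card {g : C // g ^ 2 = 1} := by
        rw [Nat.card_congr (Equiv.subtypeEquivRight (q := fun k : C => ¬ k ^ 2 = 1) fun k => ?_)]
        · simp only [Nat.card_eq_fintype_card, Fintype.card_subtype_compl]
        · rw [hsq, show e (true, true) = y * x from rfl, hc1]
          exact hiff k
      have hle : Nat.card {g : C // g ^ 2 = 1} ≤ Nat.card C := Finite.card_subtype_le _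
      omega

/-- The count in terms of the type. -/
theorem card_sq_one [Fact (Nat.Prime 2)] : ∀ (k : ℕ) (G : Type u) [Group G] [Finite G],
    ExtraLike 2 G → Nat.card G = 2 ^ (2 * k + 1) → 1 ≤ k →
    (IsPlusType k G → Nat.card {g : G // g ^ 2 = 1} = 2 ^ (2 * k) + 2 ^ k) ∧
    (¬ IsPlusType k G → Nat.card {g : G // g ^ 2 = 1} = 2 ^ (2 * k) - 2 ^ k) := by
  classical
  intro k
  induction k with
  | zero => intro G _ _ _ _ h; omega
  | succ k ih =>
    intro G _ _ h hG _
    have hsub : ∀ {x y : G}, ⁅x, y⁆ ≠ 1 →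
        Nat.card ↥(centralizer ({x, y} : Set G)) = 2 ^ (2 * k + 1) := by
      intro x y hxy
      have e1 := card_eq_mul h hxy
      rw [hG, show 2 * (k + 1) + 1 = 2 + (2 * k + 1) by ring, pow_add] at e1
      exact (Nat.eq_of_mul_eq_mul_left (by norm_num) e1).symm
    match k with
    | 0 =>
      constructor
      · intro hi
        obtain ⟨x, y, hxy, hx, hy⟩ := exists_pair_involutions h hi
        rw [card_sq_one_step h hxy hx hy, hsub hxy]
        have h2 : Nat.card {g : ↥(centralizer ({x, y} : Set G)) // g ^ 2 = 1} = 2 := by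
          have hc := hsub hxy
          norm_num at hc
          rw [Nat.card_congr (Equiv.subtypeUnivEquiv fun g => ?_), hc]
          rw [← hc]; exact pow_card_eq_one'
        rw [h2]; norm_num
      · intro hno
        have hiff : ∀ g : G, g ^ 2 = 1 ↔ g ∈ center G := by
          intro g
          refine ⟨fun hg => ?_, fun hg => ?_⟩
          · by_contra hgc
            exact hno ⟨g, hgc, hg⟩
          · have : (⟨g, hg⟩ : center G) ^ Nat.card (center G) = 1 := pow_card_eq_one'
            rw [h.card_center] at this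
            exact congrArg Subtype.val this
        rw [Nat.card_congr (Equiv.subtypeEquivRight hiff)]
        rw [h.card_center]
        norm_num
    | k + 1 =>
      have hkey : ∀ x y : G, ⁅x, y⁆ ≠ 1 → x ^ 2 = 1 → y ^ 2 = 1 →
          (IsPlusType (k + 1) ↥(centralizer ({x, y} : Set G)) →
            Nat.card {g : G // g ^ 2 = 1} = 2 ^ (2 * (k + 2)) + 2 ^ (k + 2)) ∧
          (¬ IsPlusType (k + 1) ↥(centralizer ({x, y} : Set G)) →
            Nat.card {g : G // g ^ 2 = 1} = 2 ^ (2 * (k + 2)) - 2 ^ (k + 2)) := by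
        intro x y hxy hx hy
        obtain ⟨i1, i2⟩ := ih _ (extraLike_centralizer h hxy) (hsub hxy) (by omega)
        have hs := card_sq_one_step h hxy hx hy
        rw [hsub hxy] at hs
        have e1 : 2 ^ (2 * (k + 2)) = 2 * 2 ^ (2 * (k + 1) + 1) := by ring
        have e2 : 2 ^ (2 * (k + 1) + 1) = 2 * 2 ^ (2 * (k + 1)) := by ring
        have e3 : 2 ^ (k + 2) = 2 * 2 ^ (k + 1) := by ring
        have e4 : 2 ^ (k + 1) ≤ 2 ^ (2 * (k + 1)) := Nat.pow_le_pow_right (by norm_num) (by omega)
        constructor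
        · intro hp
          rw [hs, i1 hp]; omega
        · intro hp
          rw [hs, i2 hp]; omega
      constructor
      · rintro ⟨x, y, hxy, hx, hy, ht⟩
        exact (hkey x y hxy hx hy).1 ht
      · intro hno
        have big : 8 < 2 ^ (2 * (k + 1 + 1) + 1) :=
          (Nat.pow_lt_pow_right (a := 2) (by norm_num) (by omega : 3 < 2 * (k + 1 + 1) + 1))
        obtain ⟨x, y, hxy, hx, hy⟩ := exists_pair_involutions h (hasInvolution_of_card h (hG ▸ big))
        exact (hkey x y hxy hx hy).2 fun ht => hno ⟨x, y, hxy, hx, hy, ht⟩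

end Cfsg.Agent.Lib.ExtraStruct
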